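import Mathlib
import Cfsg.Agent.Lib.Coprime.Cocyclic

/-!
An elementary abelian group of order eight acting on a group of odd prime power order, with a
four-subgroup all of whose involutions have cyclic fixed-point subgroups.
-/

set_option autoImplicit false

open scoped commutatorElement

namespace Cfsg.Agent.Lib.BroadEight

variable {P : Type*} [Group P]

/-- The fixed points of `T` form a cyclic subgroup. -/
def CycFix (T : MulAut P) : Prop := ∃ g : P, ∀ x : P, (T x = x ↔ x ∈ Subgroup.zpowers g)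

variable [Finite P] {p : ℕ}

/-- The two generators-comparison in a cyclic `p`-group. -/
theorem mem_zpowers_or (hp : p.Prime) (hP : IsPGroup p P) {g a b : P}
    (ha : a ∈ Subgroup.zpowers g) (hb : b ∈ Subgroup.zpowers g) :
    a ∈ Subgroup.zpowers b ∨ b ∈ Subgroup.zpowers a := by
  haveI := Fact.mk hp
  obtain ⟨h, hh⟩ : ∃ h : P, Subgroup.zpowers a ⊔ Subgroup.zpowers b = Subgroup.zpowers h := by
    have hc : IsCyclic ↥(Subgroup.zpowers a ⊔ Subgroup.zpowers b) :=
      Subgroup.isCyclic_of_le (show Subgroup.zpowers a ⊔ Subgroup.zpowers b ≤ Subgroup.zpowers g from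
        sup_le (Subgroup.zpowers_le.mpr ha) (Subgroup.zpowers_le.mpr hb))
    obtain ⟨h, hh⟩ := (Subgroup.isCyclic_iff_exists_zpowers_eq_top _).mp hc
    exact ⟨h, hh.symm⟩
  obtain ⟨i, hi⟩ := mem_powers_iff_mem_zpowers.mpr (hh ▸ Subgroup.mem_sup_left (Subgroup.mem_zpowers a) :
    a ∈ Subgroup.zpowers h)
  obtain ⟨j, hj⟩ := mem_powers_iff_mem_zpowers.mpr (hh ▸ Subgroup.mem_sup_right (Subgroup.mem_zpowers b) :
    b ∈ Subgroup.zpowers h)
  simp only at hi hj
  obtain ⟨n, hn⟩ := IsPGroup.iff_orderOf.mp hP h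
  have key : ∀ (c : P) (k : ℕ), h ^ k = c → ¬ p ∣ k → h ∈ Subgroup.zpowers c := by
    intro c k hk hd
    have hcop : k.Coprime (orderOf h) := by
      rw [hn]
      exact Nat.Coprime.pow_right n ((hp.coprime_iff_not_dvd.mpr hd).symm)
    obtain ⟨u, hu⟩ := exists_pow_eq_self_of_coprime hcop
    rw [← hu, hk]
    exact pow_mem (Subgroup.mem_zpowers c) u
  by_cases hia : p ∣ i
  · by_cases hjb : p ∣ j
    · left
      have hle : Subgroup.zpowers a ⊔ Subgroup.zpowers b ≤ Subgroup.zpowers (h ^ p) := by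
        refine sup_le (Subgroup.zpowers_le.mpr ?_) (Subgroup.zpowers_le.mpr ?_)
        · obtain ⟨i', rfl⟩ := hia
          rw [← hi, pow_mul]; exact pow_mem (Subgroup.mem_zpowers _) i'
        · obtain ⟨j', rfl⟩ := hjb
          rw [← hj, pow_mul]; exact pow_mem (Subgroup.mem_zpowers _) j'
      rw [hh] at hle
      have h1 : h = 1 := by
        have h2 := Subgroup.card_le_of_le hle
        rw [Nat.card_zpowers, Nat.card_zpowers] at h2
        rcases n with _ | n
        · exact orderOf_eq_one_iff.mp (by simpa using hn)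
        · exfalso
          rw [orderOf_pow, hn, Nat.gcd_eq_right (dvd_pow_self p n.succ_ne_zero), pow_succ,
            Nat.mul_div_cancel _ hp.pos] at h2
          have h3 : p ^ n < p ^ n * p := lt_mul_of_one_lt_right (pow_pos hp.pos n) hp.one_lt
          omega
      rw [← hi, h1, one_pow]
      exact one_mem _
    · left
      have h1 := key b j hj hjb
      rw [← hi]; exact pow_mem h1 i
  · right
    have h1 := key a i hi hia
    rw [← hj]; exact pow_mem h1 j

/-- An element of order at most two fixes or inverts an element of a cyclic fixed-point subgroup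
of a commuting automorphism. -/
theorem fix_or_invert (hp : p.Prime) (hp2 : p ≠ 2) (hP : IsPGroup p P) {t T : MulAut P} {c : P}
    (hc : ∀ x : P, t x = x ↔ x ∈ Subgroup.zpowers c) (hTt : T * t = t * T) (hT : T * T = 1) :
    T c = c ∨ T c = c⁻¹ := by
  haveI := Fact.mk hp
  have h1 : T c ∈ Subgroup.zpowers c := by
    rw [← hc]
    have : t (T c) = T (t c) := by rw [← MulAut.mul_apply, ← hTt, MulAut.mul_apply]
    rw [this, (hc c).mpr (Subgroup.mem_zpowers c)]
  obtain ⟨k, hk⟩ := Subgroup.mem_zpowers_iff.mp h1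
  have h2 : c ^ (k * k) = c ^ (1 : ℤ) := by
    rw [zpow_mul, zpow_one, hk]
    have : (T c) ^ k = T (c ^ k) := (map_zpow T c k).symm
    rw [this, hk, ← MulAut.mul_apply, hT]
    rfl
  obtain ⟨n, hn⟩ := IsPGroup.iff_orderOf.mp hP c
  have h3 : ((p : ℤ) ^ n) ∣ (k - 1) * (k + 1) := by
    have := (zpow_eq_zpow_iff_modEq.mp h2).symm
    rw [Int.modEq_iff_dvd, hn] at this
    push_cast at this
    rw [show (k - 1) * (k + 1) = k * k - 1 by ring]
    exact this
  have hpz : Prime (p : ℤ) := Nat.prime_iff_prime_int.mp hp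
  have hnot : ¬ ((p : ℤ) ∣ k - 1 ∧ (p : ℤ) ∣ k + 1) := by
    rintro ⟨a, b⟩
    have h4 := dvd_sub b a
    rw [show k + 1 - (k - 1) = (2 : ℤ) by ring] at h4
    have h5 : p ∣ 2 := by exact_mod_cast h4
    exact hp2 ((Nat.prime_dvd_prime_iff_eq hp Nat.prime_two).mp h5)
  rw [← hk]
  by_cases hd : (p : ℤ) ∣ k - 1
  · left
    have hd' : ((p : ℤ) ^ n) ∣ k - 1 := by
      have hc' : IsCoprime ((p : ℤ) ^ n) (k + 1) :=
        IsCoprime.pow_left ((hpz.coprime_iff_not_dvd).mpr fun h => hnot ⟨hd, h⟩)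
      exact hc'.dvd_of_dvd_mul_right h3
    have : c ^ k = c ^ (1 : ℤ) := zpow_eq_zpow_iff_modEq.mpr (Int.modEq_iff_dvd.mpr (by
      rw [hn]; push_cast; rw [show (1 : ℤ) - k = -(k - 1) by ring]; exact hd'.neg_right))
    rw [this, zpow_one]
  · right
    have hd' : ((p : ℤ) ^ n) ∣ k + 1 := by
      have hc' : IsCoprime ((p : ℤ) ^ n) (k - 1) :=
        IsCoprime.pow_left ((hpz.coprime_iff_not_dvd).mpr hd)
      exact hc'.dvd_of_dvd_mul_left h3
    have : c ^ k = c ^ (-1 : ℤ) := zpow_eq_zpow_iff_modEq.mpr (Int.modEq_iff_dvd.mpr (by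
      rw [hn]; push_cast; rw [show (-1 : ℤ) - k = -(k + 1) by ring]; exact hd'.neg_right))
    rw [this, zpow_neg, zpow_one]

/-- An involutory automorphism of a group of odd order fixes an element in each invariant coset. -/
theorem exists_fixed_in_coset (hp : p.Prime) (hp2 : p ≠ 2) (hP : IsPGroup p P) {t : MulAut P}
    (ht : t * t = 1) {M : Subgroup P} (hM : ∀ x ∈ M, t x ∈ M) {w : P} (hw : w⁻¹ * t w ∈ M) :
    ∃ m ∈ M, t (w * m) = w * m := by
  haveI := Fact.mk hp
  haveI : Fact (Nat.Prime 2) := ⟨Nat.prime_two⟩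
  have htt : ∀ x, t (t x) = x := fun x => by rw [← MulAut.mul_apply, ht]; rfl
  let f : M → M := fun m => ⟨w⁻¹ * t (w * m), by
    rw [map_mul, ← mul_assoc]; exact M.mul_mem hw (hM m m.2)⟩
  have hf : Function.Involutive f := fun m => Subtype.ext (by
    show w⁻¹ * t (w * (w⁻¹ * t (w * m))) = m
    rw [mul_inv_cancel_left, htt, inv_mul_cancel_left])
  haveI : Fintype M := Fintype.ofFinite M
  have hodd : ¬ 2 ∣ Fintype.card M := by
    obtain ⟨k, hk⟩ := IsPGroup.iff_card.mp (hP.to_subgroup M)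
    rw [← Nat.card_eq_fintype_card, hk]
    exact fun h => hp2 ((Nat.prime_dvd_prime_iff_eq Nat.prime_two hp).mp (Nat.prime_two.dvd_of_dvd_pow h)).symm
  obtain ⟨m, hm⟩ := Equiv.Perm.exists_fixed_point_of_prime (p := 2) (n := 1) hodd
    (σ := hf.toPerm f) (by
      ext1 m
      simp only [pow_one, sq, Equiv.Perm.mul_apply, Equiv.Perm.one_apply, Function.Involutive.coe_toPerm]
      exact hf m)
  refine ⟨m, m.2, ?_⟩
  have h := congrArg Subtype.val hm
  change w⁻¹ * t (w * m) = m at h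
  exact inv_mul_eq_iff_eq_mul.mp h

/-- The structure forced by a four-group `⟨t₁, t₂⟩` with cyclic fixed-point subgroups. -/
theorem structure_of_four (hp : p.Prime) (hp2 : p ≠ 2) (hP : IsPGroup p P)
    (I : Subgroup (MulAut P)) (hIc : ∀ S ∈ I, ∀ T ∈ I, S * T = T * S) (hI2 : ∀ T ∈ I, T * T = 1)
    (hI8 : Nat.card I = 8) {t₁ t₂ : MulAut P} (h1 : t₁ ∈ I) (h2 : t₂ ∈ I) (h1ne : t₁ ≠ 1)
    (h2ne : t₂ ≠ 1) (h12 : t₁ ≠ t₂) (hc1 : CycFix t₁) (hc2 : CycFix t₂) (hc3 : CycFix (t₁ * t₂)) :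
    IsMulCommutative P ∧ (∃ a b c : P, Subgroup.closure {a, b, c} = ⊤) ∧
      (¬ ∃ a b : P, Subgroup.closure {a, b} = ⊤) ∧
      ∃ e₁ e₂ e₃ : MulAut P, e₁ ≠ e₂ ∧ e₁ ≠ e₃ ∧ e₂ ≠ e₃ ∧
        (∀ T : MulAut P, (T ∈ I ∧ T ≠ 1 ∧ ¬ CycFix T) ↔ T = e₁ ∨ T = e₂ ∨ T = e₃) ∧
        Subgroup.closure ({e₁, e₂, e₃} : Set (MulAut P)) = I ∧
        e₁ * e₂ = t₁ * t₂ ∧ e₁ * e₃ = t₂ ∧ e₂ * e₃ = t₁ := by
  classical
  haveI := Fact.mk hp
  set t₃ := t₁ * t₂ with ht3
  obtain ⟨c₁, hc₁⟩ := hc1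
  obtain ⟨c₂, hc₂⟩ := hc2
  obtain ⟨c₃, hc₃⟩ := hc3
  have h3 : t₃ ∈ I := I.mul_mem h1 h2
  have h21 : t₂ * t₁ = t₃ := by rw [ht3, hIc _ h2 _ h1]
  have h3ne : t₃ ≠ 1 := fun h => h12 (by
    rw [← inv_eq_of_mul_eq_one_right h, inv_eq_of_mul_eq_one_right (hI2 _ h1)])
  -- generation
  have hodd2 : ¬ 2 ∣ Nat.card P := by
    obtain ⟨k, hk⟩ := IsPGroup.iff_card.mp hP
    rw [hk]
    exact fun h => hp2 ((Nat.prime_dvd_prime_iff_eq Nat.prime_two hp).mp (Nat.prime_two.dvd_of_dvd_pow h)).symm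
  have hgen : Subgroup.closure ({c₁, c₂, c₃} : Set P) = ⊤ := by
    let J : Subgroup (MulAut P) :=
      { carrier := {T | T = 1 ∨ T = t₁ ∨ T = t₂ ∨ T = t₃}
        one_mem' := Or.inl rfl
        inv_mem' := by
          rintro T (rfl | rfl | rfl | rfl)
          · exact Or.inl inv_one
          · exact Or.inr (Or.inl (inv_eq_of_mul_eq_one_right (hI2 _ h1)))
          · exact Or.inr (Or.inr (Or.inl (inv_eq_of_mul_eq_one_right (hI2 _ h2))))
          · exact Or.inr (Or.inr (Or.inr (inv_eq_of_mul_eq_one_right (hI2 _ h3))))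
        mul_mem' := by
          have a11 := hI2 _ h1
          have a22 := hI2 _ h2
          have a33 := hI2 _ h3
          have a13 : t₁ * t₃ = t₂ := by rw [ht3, ← mul_assoc, a11, one_mul]
          have a31 : t₃ * t₁ = t₂ := by rw [hIc _ h3 _ h1, a13]
          have a32 : t₃ * t₂ = t₁ := by rw [ht3, mul_assoc, a22, mul_one]
          have a23 : t₂ * t₃ = t₁ := by rw [hIc _ h2 _ h3, a32]
          rintro T U (rfl | rfl | rfl | rfl) (rfl | rfl | rfl | rfl) <;>
            simp only [Set.mem_setOf_eq, one_mul, mul_one, a11, a22, a33, a13, a31, a32, a23, h21,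
              ← ht3] <;> simp }
    have hJI : J ≤ I := by
      rintro T (rfl | rfl | rfl | rfl)
      · exact I.one_mem
      · exact h1
      · exact h2
      · exact h3
    letI : CommGroup J :=
      { (inferInstance : Group J) with
        mul_comm := fun a b => Subtype.ext (hIc _ (hJI a.2) _ (hJI b.2)) }
    have hm1 : t₁ ∈ J := Or.inr (Or.inl rfl)
    have hm2 : t₂ ∈ J := Or.inr (Or.inr (Or.inl rfl))
    have hnc : ¬ IsCyclic J := by
      intro h
      obtain ⟨g, hg⟩ := h.exists_generator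
      have hg2 : g ^ 2 = 1 := Subtype.ext (by
        show (g : MulAut P) ^ 2 = 1
        rw [sq]; exact hI2 _ (hJI g.2))
      have hmem : ∀ y : J, y = 1 ∨ y = g := fun y => by
        obtain ⟨k, rfl⟩ := Subgroup.mem_zpowers_iff.mp (hg y)
        rcases Int.even_or_odd k with ⟨l, rfl⟩ | ⟨l, rfl⟩
        · left
          rw [← two_mul, zpow_mul, show ((2 : ℤ)) = ((2 : ℕ) : ℤ) from rfl, zpow_natCast, hg2,
            one_zpow]
        · right
          rw [zpow_add_one, zpow_mul, show ((2 : ℤ)) = ((2 : ℕ) : ℤ) from rfl, zpow_natCast, hg2,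
            one_zpow, one_mul]
      rcases hmem ⟨t₁, hm1⟩ with a | a
      · exact h1ne (congrArg Subtype.val a)
      · rcases hmem ⟨t₂, hm2⟩ with b | b
        · exact h2ne (congrArg Subtype.val b)
        · exact h12 (congrArg Subtype.val (a.trans b.symm))
    have hcop : (Nat.card J).Coprime (Nat.card P) := by
      have hdvd : Nat.card J ∣ 2 ^ 3 := by
        have := Subgroup.card_dvd_of_le hJI
        rwa [hI8] at this
      exact (((Nat.prime_two.coprime_iff_not_dvd).mpr hodd2).pow_left 3).coprime_dvd_left hdvd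
    refine Cfsg.Agent.Lib.Coprime.eq_top_of_forall_fixedBy J.subtype hnc hcop _ ?_
    rintro ⟨T, hT⟩ hT1 x hx
    rw [Cfsg.Agent.Lib.Coprime.mem_fixedBy] at hx
    change T x = x at hx
    rcases hT with rfl | rfl | rfl | rfl
    · exact absurd rfl hT1
    · exact (Subgroup.zpowers_le.mpr (Subgroup.subset_closure (by simp))) ((hc₁ x).mp hx)
    · exact (Subgroup.zpowers_le.mpr (Subgroup.subset_closure (by simp))) ((hc₂ x).mp hx)
    · exact (Subgroup.zpowers_le.mpr (Subgroup.subset_closure (by simp))) ((hc₃ x).mp hx)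
  have hs1 := fun T (hT : T ∈ I) => fix_or_invert hp hp2 hP hc₁ (hIc T hT _ h1) (hI2 T hT)
  have hs2 := fun T (hT : T ∈ I) => fix_or_invert hp hp2 hP hc₂ (hIc T hT _ h2) (hI2 T hT)
  have hs3 := fun T (hT : T ∈ I) => fix_or_invert hp hp2 hP hc₃ (hIc T hT _ h3) (hI2 T hT)
  -- the three signs
  let sgn : I → Bool × Bool × Bool := fun T =>
    (decide ((T : MulAut P) c₁ = c₁), decide ((T : MulAut P) c₂ = c₂), decide ((T : MulAut P) c₃ = c₃))
  have hinj : Function.Injective sgn := by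
    intro S T h
    simp only [sgn, Prod.mk.injEq, decide_eq_decide] at h
    obtain ⟨k1, k2, k3⟩ := h
    have hagree : ∀ (c : P), ((S : MulAut P) c = c ↔ (T : MulAut P) c = c) →
        ((S : MulAut P) c = c ∨ (S : MulAut P) c = c⁻¹) → ((T : MulAut P) c = c ∨ (T : MulAut P) c = c⁻¹) →
        (S : MulAut P) c = (T : MulAut P) c := by
      intro c k hS hT
      rcases hS with a | a <;> rcases hT with b | b
      · rw [a, b]
      · rw [a, k.mp a]
      · rw [b, k.mpr b]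
      · rw [a, b]
    apply Subtype.ext
    apply MulEquiv.ext
    intro x
    have hx : x ∈ Subgroup.closure ({c₁, c₂, c₃} : Set P) := hgen ▸ Subgroup.mem_top x
    induction hx using Subgroup.closure_induction with
    | mem y hy =>
      rcases hy with rfl | rfl | rfl
      · exact hagree _ k1 (hs1 _ S.2) (hs1 _ T.2)
      · exact hagree _ k2 (hs2 _ S.2) (hs2 _ T.2)
      · exact hagree _ k3 (hs3 _ S.2) (hs3 _ T.2)
    | one => rw [map_one, map_one]
    | mul a b _ _ ha hb => rw [map_mul, map_mul, ha, hb]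
    | inv a _ ha => rw [map_inv, map_inv, ha]
  have hbij : Function.Bijective sgn :=
    (Nat.bijective_iff_injective_and_card sgn).mpr ⟨hinj, by simp [hI8, Nat.card_eq_fintype_card]⟩
  have hget : ∀ a b c : Bool, ∃ T ∈ I, (T c₁ = c₁ ↔ a = true) ∧ (T c₂ = c₂ ↔ b = true) ∧ (T c₃ = c₃ ↔ c = true) := by
    intro a b c
    obtain ⟨T, hT⟩ := hbij.2 (a, b, c)
    simp only [sgn, Prod.mk.injEq] at hT
    obtain ⟨k1, k2, k3⟩ := hT
    exact ⟨T, T.2, by rw [← k1, decide_eq_true_iff], by rw [← k2, decide_eq_true_iff],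
      by rw [← k3, decide_eq_true_iff]⟩
  have huniq : ∀ S ∈ I, ∀ T ∈ I, (S c₁ = c₁ ↔ T c₁ = c₁) → (S c₂ = c₂ ↔ T c₂ = c₂) →
      (S c₃ = c₃ ↔ T c₃ = c₃) → S = T := by
    intro S hS T hT k1 k2 k3
    have : sgn ⟨S, hS⟩ = sgn ⟨T, hT⟩ := by
      simp only [sgn, Prod.mk.injEq, decide_eq_decide]
      exact ⟨k1, k2, k3⟩
    exact congrArg Subtype.val (hinj this)
  -- a power of a fixed element is fixed
  have hpowfix : ∀ (T : MulAut P) (c d : P), T c = c → d ∈ Subgroup.zpowers c → T d = d := by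
    intro T c d hTc hd
    obtain ⟨i, rfl⟩ := Subgroup.mem_zpowers_iff.mp hd
    rw [map_zpow, hTc]
  obtain ⟨e₁, he₁, e11, e12, e13⟩ := hget false true true
  obtain ⟨e₂, he₂, e21, e22, e23⟩ := hget true false true
  obtain ⟨e₃, he₃, e31, e32, e33⟩ := hget true true false
  obtain ⟨s, hs, s1, s2, s3⟩ := hget false false false
  simp only [reduceCtorEq, iff_false, iff_true] at e11 e12 e13 e21 e22 e23 e31 e32 e33 s1 s2 s3
  -- the signs of the three given involutions
  have m12 : c₂ ∉ Subgroup.zpowers c₁ := fun h => e22 (hpowfix e₂ _ _ e21 h)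
  have m13 : c₃ ∉ Subgroup.zpowers c₁ := fun h => e33 (hpowfix e₃ _ _ e31 h)
  have m21 : c₁ ∉ Subgroup.zpowers c₂ := fun h => e11 (hpowfix e₁ _ _ e12 h)
  have m23 : c₃ ∉ Subgroup.zpowers c₂ := fun h => e33 (hpowfix e₃ _ _ e32 h)
  have m31 : c₁ ∉ Subgroup.zpowers c₃ := fun h => e11 (hpowfix e₁ _ _ e13 h)
  have m32 : c₂ ∉ Subgroup.zpowers c₃ := fun h => e22 (hpowfix e₂ _ _ e23 h)
  have t11 : t₁ c₁ = c₁ := (hc₁ _).mpr (Subgroup.mem_zpowers _)
  have t22 : t₂ c₂ = c₂ := (hc₂ _).mpr (Subgroup.mem_zpowers _)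
  have t33 : t₃ c₃ = c₃ := (hc₃ _).mpr (Subgroup.mem_zpowers _)
  have t12 : t₁ c₂ ≠ c₂ := fun h => m12 ((hc₁ _).mp h)
  have t13 : t₁ c₃ ≠ c₃ := fun h => m13 ((hc₁ _).mp h)
  have t21 : t₂ c₁ ≠ c₁ := fun h => m21 ((hc₂ _).mp h)
  have t23 : t₂ c₃ ≠ c₃ := fun h => m23 ((hc₂ _).mp h)
  have t31 : t₃ c₁ ≠ c₁ := fun h => m31 ((hc₃ _).mp h)
  have t32 : t₃ c₂ ≠ c₂ := fun h => m32 ((hc₃ _).mp h)
  -- inversion
  have hinvert : ∀ (T : MulAut P) (c : P), (T c = c ∨ T c = c⁻¹) → T c ≠ c → T c = c⁻¹ :=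
    fun T c h hne => h.resolve_left hne
  -- abelian
  have hab : ∀ x y : P, x * y = y * x := by
    haveI := hP.isNilpotent
    set N : Subgroup P := commutator P with hN
    set M : Subgroup P := ⁅N, (⊤ : Subgroup P)⁆ with hM
    haveI hMn : M.Normal := by rw [hM]; infer_instance
    set π := QuotientGroup.mk' M
    have hchar : ∀ (φ : MulAut P), ∀ x ∈ M, φ x ∈ M := by
      intro φ x hx
      have hmap : M.map φ.toMonoidHom = M := by
        rw [hM, Subgroup.map_commutator, Subgroup.map_top_of_surjective _ φ.surjective, hN,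
          commutator_def, Subgroup.map_commutator, Subgroup.map_top_of_surjective _ φ.surjective]
      exact hmap ▸ ⟨x, hx, rfl⟩
    have hNM : ∀ w ∈ N, ∀ x : P, π w * π x = π x * π w := by
      intro w hw x
      rw [← commutatorElement_eq_one_iff_mul_comm, ← map_commutatorElement]
      exact (QuotientGroup.eq_one_iff _).mpr (Subgroup.commutator_mem_commutator hw (Subgroup.mem_top x))
    have hpair : ∀ u v : P, ∀ t : MulAut P, t ∈ I → t u = u⁻¹ → t v = v⁻¹ → π (t ⁅u, v⁆) = π ⁅u, v⁆ := by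
      intro u v t _ hu hv
      have hw : ⁅u, v⁆ ∈ N := Subgroup.commutator_mem_commutator (Subgroup.mem_top u) (Subgroup.mem_top v)
      have h1 : t ⁅u, v⁆ = (v * u)⁻¹ * ⁅u, v⁆ * (v * u) := by
        simp only [commutatorElement_def, map_mul, map_inv, hu, hv]
        group
      rw [h1, map_mul, map_mul, map_inv, mul_assoc, hNM _ hw, inv_mul_cancel_left]
    have hcore : ∀ (u v ck : P) (t : MulAut P), t ∈ I → (∀ x : P, t x = x ↔ x ∈ Subgroup.zpowers ck) →
        t u = u⁻¹ → t v = v⁻¹ → s u = u⁻¹ → s v = v⁻¹ → s ck = ck⁻¹ → ⁅u, v⁆ ∈ M := by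
      intro u v ck t ht hfx htu htv hsu hsv hsk
      set w := ⁅u, v⁆
      have e1 := hpair u v t ht htu htv
      have e2 := hpair u v s hs hsu hsv
      obtain ⟨m, hm, hfix⟩ := exists_fixed_in_coset hp hp2 hP (hI2 t ht) (hchar t)
        (show w⁻¹ * t w ∈ M from QuotientGroup.eq.mp e1.symm)
      have hinv : s (w * m) = (w * m)⁻¹ := by
        obtain ⟨i, hi⟩ := Subgroup.mem_zpowers_iff.mp ((hfx _).mp hfix)
        rw [← hi, map_zpow, hsk, inv_zpow]
      have h5 := congrArg π hinv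
      rw [map_mul s, map_mul π, (QuotientGroup.eq_one_iff (s m)).mpr (hchar s m hm) |> fun h =>
        (show π (s m) = 1 from h), mul_one, e2, map_inv, map_mul π,
        (show π m = 1 from (QuotientGroup.eq_one_iff m).mpr hm), mul_one] at h5
      obtain ⟨k, hk⟩ := IsPGroup.iff_orderOf.mp (hP.to_quotient M) (π w)
      have h6 : orderOf (π w) ∣ 2 := orderOf_dvd_of_pow_eq_one (by
        rw [sq]; conv_lhs => arg 2; rw [h5]
        exact mul_inv_cancel _)
      rcases k with _ | k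
      · exact (QuotientGroup.eq_one_iff w).mp (orderOf_eq_one_iff.mp (hk.trans (pow_zero p)))
      · exfalso
        rw [hk] at h6
        exact hp2 ((Nat.prime_dvd_prime_iff_eq hp Nat.prime_two).mp
          ((dvd_pow_self p k.succ_ne_zero).trans h6))
    have i12 := hcore c₁ c₂ c₃ t₃ h3 hc₃ (hinvert _ _ (hs1 _ h3) t31) (hinvert _ _ (hs2 _ h3) t32)
      (hinvert _ _ (hs1 _ hs) s1) (hinvert _ _ (hs2 _ hs) s2) (hinvert _ _ (hs3 _ hs) s3)
    have i13 := hcore c₁ c₃ c₂ t₂ h2 hc₂ (hinvert _ _ (hs1 _ h2) t21) (hinvert _ _ (hs3 _ h2) t23)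
      (hinvert _ _ (hs1 _ hs) s1) (hinvert _ _ (hs3 _ hs) s3) (hinvert _ _ (hs2 _ hs) s2)
    have i23 := hcore c₂ c₃ c₁ t₁ h1 hc₁ (hinvert _ _ (hs2 _ h1) t12) (hinvert _ _ (hs3 _ h1) t13)
      (hinvert _ _ (hs2 _ hs) s2) (hinvert _ _ (hs3 _ hs) s3) (hinvert _ _ (hs1 _ hs) s1)
    have hcm : ∀ u v : P, ⁅u, v⁆ ∈ M → π u * π v = π v * π u := fun u v h => by
      rw [← commutatorElement_eq_one_iff_mul_comm, ← map_commutatorElement]
      exact (QuotientGroup.eq_one_iff _).mpr h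
    have hC : IsMulCommutative (Subgroup.closure (π '' ({c₁, c₂, c₃} : Set P))) := by
      refine Subgroup.isMulCommutative_closure ?_
      rintro _ ⟨u, (rfl | rfl | rfl), rfl⟩ _ ⟨v, (rfl | rfl | rfl), rfl⟩ <;>
        first
          | rfl
          | exact hcm _ _ i12 | exact (hcm _ _ i12).symm
          | exact hcm _ _ i13 | exact (hcm _ _ i13).symm
          | exact hcm _ _ i23 | exact (hcm _ _ i23).symm
    have htop : Subgroup.closure (π '' ({c₁, c₂, c₃} : Set P)) = ⊤ := by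
      rw [← MonoidHom.map_closure, hgen, Subgroup.map_top_of_surjective _ (QuotientGroup.mk'_surjective _)]
    have hle : N ≤ M := by
      rw [hN, ← Subgroup.Normal.quotient_commutative_iff_commutator_le]
      refine ⟨⟨fun u v => ?_⟩⟩
      exact congrArg Subtype.val (hC.is_comm.comm (⟨u, htop ▸ Subgroup.mem_top u⟩ :
        Subgroup.closure (π '' ({c₁, c₂, c₃} : Set P))) ⟨v, htop ▸ Subgroup.mem_top v⟩)
    have hlcs : ∀ k, N ≤ (⊤ : Subgroup P).lowerCentralSeries k := by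
      intro k
      induction k with
      | zero => simp
      | succ k ih =>
        refine hle.trans ?_
        rw [hM, Subgroup.lowerCentralSeries_succ]
        exact Subgroup.commutator_mono ih le_rfl
    obtain ⟨n, hn⟩ := Subgroup.nilpotent_iff_lowerCentralSeries.mp (inferInstance : Group.IsNilpotent P)
    have hN0 : N = ⊥ := le_bot_iff.mp (hn ▸ hlcs n)
    intro x y
    have hxy : ⁅x, y⁆ ∈ N := Subgroup.commutator_mem_commutator (Subgroup.mem_top x) (Subgroup.mem_top y)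
    rw [hN0, Subgroup.mem_bot, commutatorElement_eq_one_iff_mul_comm] at hxy
    exact hxy
  have habc : IsMulCommutative P := ⟨⟨hab⟩⟩
  -- decomposition
  have hdec : ∀ y : P, ∃ a b c : ℤ, y = c₁ ^ a * c₂ ^ b * c₃ ^ c := by
    intro y
    have hy : y ∈ Subgroup.closure ({c₁, c₂, c₃} : Set P) := hgen ▸ Subgroup.mem_top y
    induction hy using Subgroup.closure_induction with
    | mem z hz =>
      rcases hz with rfl | rfl | rfl
      · exact ⟨1, 0, 0, by simp⟩
      · exact ⟨0, 1, 0, by simp⟩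
      · exact ⟨0, 0, 1, by simp⟩
    | one => exact ⟨0, 0, 0, by simp⟩
    | mul u v _ _ hu hv =>
      obtain ⟨a, b, c, rfl⟩ := hu
      obtain ⟨a', b', c', rfl⟩ := hv
      refine ⟨a + a', b + b', c + c', ?_⟩
      letI : CommGroup P := { (inferInstance : Group P) with mul_comm := hab }
      simp only [zpow_add]
      ac_rfl
    | inv u _ hu =>
      obtain ⟨a, b, c, rfl⟩ := hu
      refine ⟨-a, -b, -c, ?_⟩
      letI : CommGroup P := { (inferInstance : Group P) with mul_comm := hab }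
      simp only [mul_inv, zpow_neg]
  have hsq : ∀ x : P, x⁻¹ = x → x = 1 := by
    intro x hx
    obtain ⟨k, hk⟩ := IsPGroup.iff_orderOf.mp hP x
    have h6 : orderOf x ∣ 2 := orderOf_dvd_of_pow_eq_one (by
      rw [sq]; conv_lhs => arg 1; rw [← hx]
      exact inv_mul_cancel x)
    rcases k with _ | k
    · exact orderOf_eq_one_iff.mp (by simpa using hk)
    · exfalso
      rw [hk] at h6
      exact hp2 ((Nat.prime_dvd_prime_iff_eq hp Nat.prime_two).mp ((dvd_pow_self p k.succ_ne_zero).trans h6))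
  have hsfix : CycFix s := by
    refine ⟨1, fun x => ⟨fun hx => ?_, fun hx => ?_⟩⟩
    · have hinv : s x = x⁻¹ := by
        obtain ⟨a, b, c, rfl⟩ := hdec x
        rw [map_mul, map_mul, map_zpow, map_zpow, map_zpow, hinvert _ _ (hs1 _ hs) s1,
          hinvert _ _ (hs2 _ hs) s2, hinvert _ _ (hs3 _ hs) s3]
        letI : CommGroup P := { (inferInstance : Group P) with mul_comm := hab }
        simp only [mul_inv, inv_zpow]
      rw [hsq x (hinv.symm.trans hx)]
      exact one_mem _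
    · rw [Subgroup.zpowers_one_eq_bot, Subgroup.mem_bot] at hx
      rw [hx, map_one]
  have hbroad : ∀ (T : MulAut P) (a b : P), T a = a → T b = b → a ∉ Subgroup.zpowers b →
      b ∉ Subgroup.zpowers a → ¬ CycFix T := by
    rintro T a b ha hb n1 n2 ⟨g, hg⟩
    rcases mem_zpowers_or hp hP ((hg a).mp ha) ((hg b).mp hb) with h | h
    · exact n1 h
    · exact n2 h
  have hone : ∀ T ∈ I, T c₁ = c₁ → T c₂ = c₂ → T c₃ = c₃ → T = 1 := fun T hT a b c =>
    huniq T hT 1 I.one_mem (by simp [a]) (by simp [b]) (by simp [c])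
  have hcases : ∀ T ∈ I, T = 1 ∨ T = e₁ ∨ T = e₂ ∨ T = e₃ ∨ T = s ∨ T = t₁ ∨ T = t₂ ∨ T = t₃ := by
    intro T hT
    by_cases a : T c₁ = c₁ <;> by_cases b : T c₂ = c₂ <;> by_cases c : T c₃ = c₃
    · exact Or.inl (hone T hT a b c)
    · exact Or.inr (Or.inr (Or.inr (Or.inl
        (huniq T hT _ he₃ (by simp [a, e31]) (by simp [b, e32]) (by simp [c, e33])))))
    · exact Or.inr (Or.inr (Or.inl
        (huniq T hT _ he₂ (by simp [a, e21]) (by simp [b, e22]) (by simp [c, e23]))))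
    · exact Or.inr (Or.inr (Or.inr (Or.inr (Or.inr (Or.inl
        (huniq T hT _ h1 (by simp [a, t11]) (by simp [b, t12]) (by simp [c, t13])))))))
    · exact Or.inr (Or.inl
        (huniq T hT _ he₁ (by simp [a, e11]) (by simp [b, e12]) (by simp [c, e13])))
    · exact Or.inr (Or.inr (Or.inr (Or.inr (Or.inr (Or.inr (Or.inl
        (huniq T hT _ h2 (by simp [a, t21]) (by simp [b, t22]) (by simp [c, t23]))))))))
    · exact Or.inr (Or.inr (Or.inr (Or.inr (Or.inr (Or.inr (Or.inr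
        (huniq T hT _ h3 (by simp [a, t31]) (by simp [b, t32]) (by simp [c, t33]))))))))
    · exact Or.inr (Or.inr (Or.inr (Or.inr (Or.inl
        (huniq T hT _ hs (by simp [a, s1]) (by simp [b, s2]) (by simp [c, s3]))))))
  -- products of signs
  have hc1ne : c₁⁻¹ ≠ c₁ := fun h => e11 (by rw [hsq c₁ h, map_one])
  have hc2ne : c₂⁻¹ ≠ c₂ := fun h => e22 (by rw [hsq c₂ h, map_one])
  have hc3ne : c₃⁻¹ ≠ c₃ := fun h => e33 (by rw [hsq c₃ h, map_one])
  have hprod : e₁ * e₂ = t₃ ∧ e₁ * e₃ = t₂ ∧ e₂ * e₃ = t₁ := by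
    have f11 := hinvert _ _ (hs1 _ he₁) e11
    have f22 := hinvert _ _ (hs2 _ he₂) e22
    have f33 := hinvert _ _ (hs3 _ he₃) e33
    refine ⟨huniq _ (I.mul_mem he₁ he₂) _ h3 ?_ ?_ ?_, huniq _ (I.mul_mem he₁ he₃) _ h2 ?_ ?_ ?_,
      huniq _ (I.mul_mem he₂ he₃) _ h1 ?_ ?_ ?_⟩ <;>
      simp [MulAut.mul_apply, f11, f22, f33, e12, e13, e21, e23, e31, e32, t11, t12, t13, t21, t22,
        t23, t31, t32, t33, hc1ne, hc2ne, hc3ne]
  obtain ⟨p12, p13, p23⟩ := hprod
  refine ⟨habc, ⟨c₁, c₂, c₃, hgen⟩, ?_, e₁, e₂, e₃, fun h => e11 (by rw [h, e21]),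
    fun h => e11 (by rw [h, e31]), fun h => e22 (by rw [h, e32]), fun T => ⟨?_, ?_⟩, ?_, p12, p13, p23⟩
  · -- not two-generated
    rintro ⟨a, b, hab'⟩
    letI : CommGroup P := { (inferInstance : Group P) with mul_comm := hab }
    have hgen2 : ∀ y : P, ∃ i j : ℤ, y = a ^ i * b ^ j := by
      intro y
      have hy : y ∈ Subgroup.closure ({a, b} : Set P) := hab' ▸ Subgroup.mem_top y
      induction hy using Subgroup.closure_induction with
      | mem z hz =>
        rcases hz with rfl | rfl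
        · exact ⟨1, 0, by simp⟩
        · exact ⟨0, 1, by simp⟩
      | one => exact ⟨0, 0, by simp⟩
      | mul u v _ _ hu hv =>
        obtain ⟨i, j, rfl⟩ := hu
        obtain ⟨i', j', rfl⟩ := hv
        exact ⟨i + i', j + j', by simp only [zpow_add]; ac_rfl⟩
      | inv u _ hu =>
        obtain ⟨i, j, rfl⟩ := hu
        exact ⟨-i, -j, by simp only [mul_inv, zpow_neg]⟩
    choose fi fj hij using fun q : Fin p × Fin p × Fin p =>
      hgen2 (c₁ ^ (q.1 : ℤ) * c₂ ^ (q.2.1 : ℤ) * c₃ ^ (q.2.2 : ℤ))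
    haveI : NeZero p := ⟨hp.ne_zero⟩
    obtain ⟨q, q', hne, heq⟩ := Fintype.exists_ne_map_eq_of_card_lt
      (fun q : Fin p × Fin p × Fin p => ((fi q : ZMod p), (fj q : ZMod p))) (by
        simp only [Fintype.card_prod, Fintype.card_fin, ZMod.card]
        nlinarith [hp.two_le, Nat.mul_pos hp.pos hp.pos])
    simp only [Prod.mk.injEq] at heq
    obtain ⟨m, hm⟩ := (ZMod.intCast_eq_intCast_iff_dvd_sub _ _ p).mp heq.1
    obtain ⟨m', hm'⟩ := (ZMod.intCast_eq_intCast_iff_dvd_sub _ _ p).mp heq.2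
    apply hne
    obtain ⟨x, y, z, hxyz⟩ := hdec (a ^ m * b ^ m')
    have hrel : c₁ ^ ((q'.1 : ℤ) - q.1 - p * x) * c₂ ^ ((q'.2.1 : ℤ) - q.2.1 - p * y) *
        c₃ ^ ((q'.2.2 : ℤ) - q.2.2 - p * z) = 1 := by
      have h0 : (a ^ m * b ^ m') ^ (p : ℤ) * (c₁ ^ (q.1 : ℤ) * c₂ ^ (q.2.1 : ℤ) * c₃ ^ (q.2.2 : ℤ)) =
          c₁ ^ (q'.1 : ℤ) * c₂ ^ (q'.2.1 : ℤ) * c₃ ^ (q'.2.2 : ℤ) := by
        rw [hij, hij, show fi q' = (p : ℤ) * m + fi q by omega,
          show fj q' = (p : ℤ) * m' + fj q by omega, mul_zpow, ← zpow_mul, ← zpow_mul,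
          mul_comm m, mul_comm m', zpow_add, zpow_add]
        exact mul_mul_mul_comm _ _ _ _
      rw [hxyz, mul_zpow, mul_zpow, ← zpow_mul, ← zpow_mul, ← zpow_mul, mul_comm x, mul_comm y,
        mul_comm z] at h0
      simp only [zpow_sub, div_eq_mul_inv]
      calc c₁ ^ (q'.1 : ℤ) * (c₁ ^ (q.1 : ℤ))⁻¹ * (c₁ ^ ((p : ℤ) * x))⁻¹ *
            (c₂ ^ (q'.2.1 : ℤ) * (c₂ ^ (q.2.1 : ℤ))⁻¹ * (c₂ ^ ((p : ℤ) * y))⁻¹) *
            (c₃ ^ (q'.2.2 : ℤ) * (c₃ ^ (q.2.2 : ℤ))⁻¹ * (c₃ ^ ((p : ℤ) * z))⁻¹)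
          = (c₁ ^ (q'.1 : ℤ) * c₂ ^ (q'.2.1 : ℤ) * c₃ ^ (q'.2.2 : ℤ)) *
            (c₁ ^ ((p : ℤ) * x) * c₂ ^ ((p : ℤ) * y) * c₃ ^ ((p : ℤ) * z) *
              (c₁ ^ (q.1 : ℤ) * c₂ ^ (q.2.1 : ℤ) * c₃ ^ (q.2.2 : ℤ)))⁻¹ := by
            simp only [mul_inv]; ac_rfl
        _ = 1 := by rw [h0, mul_inv_cancel]
    have hkill : ∀ (T : MulAut P) (u v w : P) (i j k : ℤ), T u = u⁻¹ → T v = v → T w = w →
        u ^ i * v ^ j * w ^ k = 1 → u ^ i = 1 := by
      intro T u v w i j k hu hv hw h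
      have h' := congrArg T h
      rw [map_mul, map_mul, map_zpow, map_zpow, map_zpow, hu, hv, hw, map_one, inv_zpow] at h'
      refine hsq _ ?_
      exact mul_right_cancel (mul_right_cancel (h'.trans h.symm))
    have g1 := hkill e₁ c₁ c₂ c₃ _ _ _ (hinvert _ _ (hs1 _ he₁) e11) e12 e13 hrel
    have g2 := hkill e₂ c₂ c₁ c₃ _ _ _ (hinvert _ _ (hs2 _ he₂) e22) e21 e23
      (show c₂ ^ ((q'.2.1 : ℤ) - q.2.1 - p * y) * c₁ ^ ((q'.1 : ℤ) - q.1 - p * x) * _ = 1 by
        rw [mul_comm (c₂ ^ _)]; exact hrel)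
    have g3 := hkill e₃ c₃ c₁ c₂ _ _ _ (hinvert _ _ (hs3 _ he₃) e33) e31 e32
      (show c₃ ^ ((q'.2.2 : ℤ) - q.2.2 - p * z) * c₁ ^ ((q'.1 : ℤ) - q.1 - p * x) *
          c₂ ^ ((q'.2.1 : ℤ) - q.2.1 - p * y) = 1 by
        rw [mul_assoc, mul_comm]; exact hrel)
    have hfin : ∀ (c : P) (i i' : Fin p) (x : ℤ), c⁻¹ ≠ c → c ^ ((i' : ℤ) - i - p * x) = 1 → i = i' := by
      intro c i i' x hc h
      rw [← orderOf_dvd_iff_zpow_eq_one] at h
      obtain ⟨n, hn⟩ := IsPGroup.iff_orderOf.mp hP c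
      rcases n with _ | n
      · exfalso
        have : c = 1 := orderOf_eq_one_iff.mp (by simpa using hn)
        exact hc (by rw [this, inv_one])
      rw [hn] at h
      push_cast at h
      have h4 : (p : ℤ) ∣ (i' : ℤ) - i := by
        have := dvd_add ((dvd_pow_self (p : ℤ) n.succ_ne_zero).trans h) (dvd_mul_right (p : ℤ) x)
        simpa using this
      apply Fin.ext
      have := Int.eq_zero_of_abs_lt_dvd h4 (by
        rw [abs_lt]; constructor <;> omega)
      omega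
    exact Prod.ext (hfin c₁ _ _ x hc1ne g1)
      (Prod.ext (hfin c₂ _ _ y hc2ne g2) (hfin c₃ _ _ z hc3ne g3))
  · rintro ⟨hT, hT1, hTb⟩
    rcases hcases T hT with rfl | rfl | rfl | rfl | rfl | rfl | rfl | rfl
    · exact absurd rfl hT1
    · exact Or.inl rfl
    · exact Or.inr (Or.inl rfl)
    · exact Or.inr (Or.inr rfl)
    · exact absurd hsfix hTb
    · exact absurd ⟨c₁, hc₁⟩ hTb
    · exact absurd ⟨c₂, hc₂⟩ hTb
    · exact absurd ⟨c₃, hc₃⟩ hTb
  · rintro (rfl | rfl | rfl)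
    · exact ⟨he₁, fun h => e11 (by rw [h]; rfl), hbroad _ c₂ c₃ e12 e13 m32 m23⟩
    · exact ⟨he₂, fun h => e22 (by rw [h]; rfl), hbroad _ c₁ c₃ e21 e23 m31 m13⟩
    · exact ⟨he₃, fun h => e33 (by rw [h]; rfl), hbroad _ c₁ c₂ e31 e32 m21 m12⟩
  · refine le_antisymm ?_ ?_
    · rw [Subgroup.closure_le]
      rintro T (rfl | rfl | rfl)
      · exact he₁
      · exact he₂
      · exact he₃
    · set C := Subgroup.closure ({e₁, e₂, e₃} : Set (MulAut P))
      have k1 : e₁ ∈ C := Subgroup.subset_closure (by simp)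
      have k2 : e₂ ∈ C := Subgroup.subset_closure (by simp)
      have k3 : e₃ ∈ C := Subgroup.subset_closure (by simp)
      have ks : s ∈ C := by
        have hseq : e₁ * t₁ = s := huniq _ (I.mul_mem he₁ h1) _ hs
          (by simp [MulAut.mul_apply, t11, e11, s1])
          (by simp [MulAut.mul_apply, hinvert _ _ (hs2 _ h1) t12, e12, s2, hc2ne])
          (by simp [MulAut.mul_apply, hinvert _ _ (hs3 _ h1) t13, e13, s3, hc3ne])
        rw [← hseq, ← p23]
        exact C.mul_mem k1 (C.mul_mem k2 k3)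
      intro T hT
      rcases hcases T hT with rfl | rfl | rfl | rfl | rfl | rfl | rfl | rfl
      · exact C.one_mem
      · exact k1
      · exact k2
      · exact k3
      · exact ks
      · rw [← p23]; exact C.mul_mem k2 k3
      · rw [← p13]; exact C.mul_mem k1 k3
      · rw [← p12]; exact C.mul_mem k1 k2

end Cfsg.Agent.Lib.BroadEight
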